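import Groth.Agent.S0596
import Groth.Agent.FComplLib.AdicUnit
import Groth.Agent.PSLib.Basic
import Mathlib

/-!
# Approximating completed points of local algebras essentially of finite type
-/

set_option autoImplicit false
set_option linter.style.haveILetI false
universe u

open IsLocalRing

namespace Groth.Agent.H4Approx

/-- A completed point of a local algebra essentially of finite type over a henselian G-ring is
approximated by honest points. -/
theorem exists_point (R : Type u) [CommRing R] [IsNoetherianRing R] [HenselianLocalRing R] (hG : CAlg.IsGRing R)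
    (C : Type u) [CommRing C] [Algebra R C] [Algebra.EssFiniteType R C]
    (h : C →ₐ[R] AdicCompletion (maximalIdeal R) R) (N : ℕ) :
    ∃ g : C →ₐ[R] R, ∀ c, h c - algebraMap R _ (g c) ∈
      ((maximalIdeal R).map (algebraMap R (AdicCompletion (maximalIdeal R) R))) ^ (N + 1) := by
  classical
  have hfg : (maximalIdeal R).FG := IsNoetherian.noetherian _
  haveI : IsLocalRing (AdicCompletion (maximalIdeal R) R) := AdicCompletion.isLocalRing_of_fg hfg
  have hmax := AdicCompletion.maximalIdeal_eq_map_of_fg hfg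
  set M := (maximalIdeal R).map (algebraMap R (AdicCompletion (maximalIdeal R) R)) with hM
  let C₀ := Algebra.EssFiniteType.subalgebra R C
  obtain ⟨n, π, hπ⟩ := Algebra.FiniteType.iff_quotient_mvPolynomial''.1
    (inferInstance : Algebra.FiniteType R C₀)
  obtain ⟨m, F, hF⟩ := Submodule.fg_iff_exists_fin_generating_family.1
    (IsNoetherian.noetherian (RingHom.ker π))
  let h₀ : C₀ →ₐ[R] AdicCompletion (maximalIdeal R) R := h.comp C₀.val
  let a : Fin n → AdicCompletion (maximalIdeal R) R := fun i => h₀ (π (MvPolynomial.X i))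
  have haev : MvPolynomial.aeval a = h₀.comp π := MvPolynomial.algHom_ext fun i => by simp [a]
  have ha : ∀ j, MvPolynomial.eval a (MvPolynomial.map (algebraMap R _) (F j)) = 0 := fun j => by
    have hj : π (F j) = 0 := (show F j ∈ RingHom.ker π from hF ▸ Submodule.subset_span ⟨j, rfl⟩)
    rw [MvPolynomial.eval_map, ← MvPolynomial.aeval_def, haev, AlgHom.comp_apply, hj, map_zero]
  obtain ⟨b, hb, hab⟩ := Groth.Agent.S0596.result R hG n m F a ha (N + 1)
  have hker : RingHom.ker π.toRingHom ≤ RingHom.ker (MvPolynomial.aeval b).toRingHom := by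
    show RingHom.ker π ≤ RingHom.ker (MvPolynomial.aeval b)
    rw [← hF]
    refine Submodule.span_le.2 ?_
    rintro _ ⟨j, rfl⟩
    exact hb j
  let g₀ : C₀ →ₐ[R] R := AlgHom.liftOfSurjective π hπ (MvPolynomial.aeval b) hker
  have hg₀ : ∀ c, h₀ c - algebraMap R _ (g₀ c) ∈ M ^ (N + 1) := by
    intro c
    obtain ⟨p, rfl⟩ := hπ c
    rw [show g₀ (π p) = MvPolynomial.aeval b p from AlgHom.liftOfSurjective_apply π hπ _ hker p,
      show h₀ (π p) = MvPolynomial.aeval a p from (AlgHom.congr_fun haev p).symm]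
    refine (Ideal.Quotient.eq (I := M ^ (N + 1))).1 ?_
    have e : (Ideal.Quotient.mkₐ R (M ^ (N + 1))).comp (MvPolynomial.aeval a) =
        (Ideal.Quotient.mkₐ R (M ^ (N + 1))).comp ((Algebra.ofId R _).comp (MvPolynomial.aeval b)) :=
      MvPolynomial.algHom_ext fun i => by
        simp only [AlgHom.comp_apply, MvPolynomial.aeval_X, Algebra.ofId_apply, Ideal.Quotient.mkₐ_eq_mk]
        refine Ideal.Quotient.eq.2 ?_
        rw [hM, ← Ideal.map_pow]
        exact hab i
    exact AlgHom.congr_fun e p
  have hunit : ∀ s : Algebra.EssFiniteType.submonoid R C, IsUnit (g₀ s.1) := by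
    intro s
    by_contra hs
    have h1 : algebraMap R (AdicCompletion (maximalIdeal R) R) (g₀ s.1) ∈ M :=
      Ideal.mem_map_of_mem _ ((mem_maximalIdeal _).2 hs)
    have h2 : h₀ s.1 ∈ M := by
      have := add_mem (Ideal.pow_le_self (Nat.succ_ne_zero N) (hg₀ s.1)) h1
      simpa using this
    have h3 : IsUnit (h₀ s.1) := (IsLocalization.map_units C s).map h
    rw [← hmax] at h2
    exact h2 h3
  let g : C →ₐ[R] R := IsLocalization.liftAlgHom (f := g₀) (fun s => hunit s)
  have hgC : ∀ x : C₀, g (algebraMap C₀ C x) = g₀ x := fun x => IsLocalization.lift_eq (fun s => hunit s) x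
  refine ⟨g, fun c => ?_⟩
  obtain ⟨⟨x, s⟩, hx⟩ := IsLocalization.surj (Algebra.EssFiniteType.submonoid R C) c
  simp only at hx
  have e1 : h c * h₀ s.1 = h₀ x := by
    show h c * h (algebraMap C₀ C s.1) = h (algebraMap C₀ C x)
    rw [← map_mul, hx]
  have e2 : algebraMap R (AdicCompletion (maximalIdeal R) R) (g c) * algebraMap R _ (g₀ s.1) =
      algebraMap R _ (g₀ x) := by
    rw [← map_mul, ← hgC, ← hgC, ← map_mul, hx]
  obtain ⟨v, hv⟩ := ((hunit s).map (algebraMap R (AdicCompletion (maximalIdeal R) R)))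
  have h4 : (h c - algebraMap R _ (g c)) * (v : AdicCompletion (maximalIdeal R) R) ∈ M ^ (N + 1) := by
    have e3 : (h c - algebraMap R _ (g c)) * (v : AdicCompletion (maximalIdeal R) R) =
        (h₀ x - algebraMap R _ (g₀ x)) - h c * (h₀ s.1 - algebraMap R _ (g₀ s.1)) := by
      rw [hv, mul_sub, e1, sub_mul, e2]
      ring
    rw [e3]
    exact sub_mem (hg₀ x) (Ideal.mul_mem_left _ _ (hg₀ s.1))
  have h5 := Ideal.mul_mem_right (↑v⁻¹ : AdicCompletion (maximalIdeal R) R) _ h4
  rwa [mul_assoc, Units.mul_inv, mul_one] at h5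

end Groth.Agent.H4Approx
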